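import Groth.Agent.GrLib8.HTLib
import Mathlib.RingTheory.Filtration

/-!
# Adjoining an element to the level of a class
-/

set_option autoImplicit false
set_option linter.style.haveILetI false

universe u

open CategoryTheory Limits

namespace Groth.Agent.GrLib8.PointT

variable {A : Type u} [CommRing A]

/-- `A/J`. -/
noncomputable abbrev qJ (J : Ideal A) : ModuleCat.{u} A := ModuleCat.of A (A ⧸ J)

/-- The projection. -/
noncomputable def rq {J' J : Ideal A} (h : J' ≤ J) : qJ J' ⟶ qJ J :=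
  ModuleCat.ofHom (Submodule.mapQ _ _ LinearMap.id h)

theorem rq_rq {J'' J' J : Ideal A} (h' : J'' ≤ J') (h : J' ≤ J) : rq h' ≫ rq h = rq (h'.trans h) := by
  ext
  rfl

theorem rq_surjective {J' J : Ideal A} (h : J' ≤ J) : Function.Surjective (rq h).hom := fun z => by
  obtain ⟨r, rfl⟩ := Submodule.Quotient.mk_surjective _ z
  exact ⟨Submodule.Quotient.mk r, rfl⟩

variable {i : ℕ} {M M' : ModuleCat.{u} A}

/-- Restriction of a class. -/
noncomputable def pull {J' J : Ideal A} (h : J' ≤ J) (x : Abelian.Ext (qJ J) M i) : Abelian.Ext (qJ J') M i :=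
  (Abelian.Ext.mk₀ (rq h)).comp x (zero_add i)

theorem pull_pull {J'' J' J : Ideal A} (h' : J'' ≤ J') (h : J' ≤ J) (x : Abelian.Ext (qJ J) M i) :
    pull h' (pull h x) = pull (h'.trans h) x := by
  unfold pull
  rw [← Abelian.Ext.comp_assoc _ _ _ (zero_add 0) (zero_add i) (by simp), Abelian.Ext.mk₀_comp_mk₀, rq_rq]

theorem pull_eq_zero_of_le {J'' J' J : Ideal A} (h' : J'' ≤ J') (h : J' ≤ J) {x : Abelian.Ext (qJ J) M i}
    (hx : pull h x = 0) : pull (h'.trans h) x = 0 := by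
  rw [← pull_pull h' h, hx]
  simp [pull]

theorem pull_comp {J' J : Ideal A} (h : J' ≤ J) (x : Abelian.Ext (qJ J) M i) (g : M ⟶ M') :
    pull h (x.comp (Abelian.Ext.mk₀ g) (add_zero i)) = (pull h x).comp (Abelian.Ext.mk₀ g) (add_zero i) :=
  (Abelian.Ext.comp_assoc _ _ _ (zero_add i) (add_zero i) (by simp)).symm

/-- The kernel sequence of adjoining an element. -/
noncomputable def seqJ (J : Ideal A) (b : A) : ShortComplex (ModuleCat.{u} A) :=
  ShortComplex.mk (X₁ := ModuleCat.of A (LinearMap.ker (rq (le_sup_left : J ≤ J ⊔ Ideal.span {b})).hom))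
    (X₂ := qJ J) (X₃ := qJ (J ⊔ Ideal.span {b}))
    (ModuleCat.ofHom (Submodule.subtype _)) (rq le_sup_left) (ModuleCat.hom_ext (LinearMap.ext fun z => z.2))

theorem seqJ_shortExact (J : Ideal A) (b : A) : (seqJ J b).ShortExact :=
  { exact := (ShortComplex.ShortExact.moduleCat_exact_iff_function_exact _).2 (LinearMap.exact_subtype_ker_map _)
    mono_f := (ModuleCat.mono_iff_injective _).2 Subtype.val_injective
    epi_g := (ModuleCat.epi_iff_surjective _).2 (rq_surjective _) }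

theorem mk_mul_mem (J : Ideal A) (b c : A) :
    (Submodule.Quotient.mk (b * c) : A ⧸ J) ∈ LinearMap.ker (rq (le_sup_left : J ≤ J ⊔ Ideal.span {b})).hom := by
  show (Submodule.Quotient.mk (b * c) : A ⧸ (J ⊔ Ideal.span {b})) = 0
  rw [Submodule.Quotient.mk_eq_zero]
  exact Ideal.mem_sup_right (Ideal.mem_span_singleton'.2 ⟨c, mul_comm _ _⟩)

/-- Multiples of the element. -/
noncomputable def mulB (J : Ideal A) (b : A) :
    A →ₗ[A] LinearMap.ker (rq (le_sup_left : J ≤ J ⊔ Ideal.span {b})).hom :=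
  (Submodule.mkQ J ∘ₗ LinearMap.mulLeft A b).codRestrict _ fun c => mk_mul_mem J b c

theorem mulB_surjective (J : Ideal A) (b : A) : Function.Surjective (mulB J b) := by
  rintro ⟨z, hz⟩
  obtain ⟨r, rfl⟩ := Submodule.Quotient.mk_surjective _ z
  have hr : r ∈ J ⊔ Ideal.span {b} := (Submodule.Quotient.mk_eq_zero _).1 hz
  obtain ⟨j, hj, y, hy, rfl⟩ := Submodule.mem_sup.1 hr
  obtain ⟨c, rfl⟩ := Ideal.mem_span_singleton'.1 hy
  refine ⟨c, Subtype.ext ?_⟩
  show (Submodule.Quotient.mk (b * c) : A ⧸ J) = Submodule.Quotient.mk (j + c * b)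
  rw [Submodule.Quotient.eq]
  rw [show b * c - (j + c * b) = -j by ring]
  exact J.neg_mem hj

theorem mulB_eq_zero_iff (J : Ideal A) (b c : A) : mulB J b c = 0 ↔ b * c ∈ J :=
  ⟨fun h => (Submodule.Quotient.mk_eq_zero _).1 (congrArg Subtype.val h),
    fun h => Subtype.ext ((Submodule.Quotient.mk_eq_zero _).2 h)⟩

/-- The multiplication onto the kernel. -/
noncomputable def mu (J : Ideal A) (b : A) : qJ J ⟶ (seqJ J b).X₁ :=
  ModuleCat.ofHom (Submodule.liftQ J (mulB J b) fun c hc =>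
    LinearMap.mem_ker.2 ((mulB_eq_zero_iff J b c).2 (J.mul_mem_left _ hc)))

variable [IsNoetherianRing A]

/-- Cancellation by a power of an element at a deeper level. -/
theorem exists_cancel (b : A) (J : Ideal A) : ∃ m k : ℕ, ∀ c : A, b ^ (k + 1) * c ∈ J ^ (m + 1) → b ^ k * c ∈ J := by
  let K : ℕ →o Ideal A :=
    { toFun := fun k => LinearMap.ker (LinearMap.mulLeft A (b ^ k))
      monotone' := fun k l hkl c hc => by
        obtain ⟨d, rfl⟩ := Nat.exists_eq_add_of_le hkl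
        rw [LinearMap.mem_ker, LinearMap.mulLeft_apply] at hc ⊢
        rw [pow_add, mul_comm (b ^ k), mul_assoc, hc, mul_zero] }
  obtain ⟨k, hk⟩ := monotone_stabilizes_iff_noetherian.2 (inferInstanceAs (IsNoetherian A A)) K
  obtain ⟨r, hr⟩ := Ideal.exists_pow_inf_eq_pow_smul J (M := A) (Ideal.span {b ^ (k + 1)})
  refine ⟨r, k, fun c hc => ?_⟩
  have h1 : b ^ (k + 1) * c ∈ (J ^ (r + 1) • ⊤ ⊓ Ideal.span {b ^ (k + 1)} : Submodule A A) :=
    ⟨by simpa using hc, Ideal.mem_span_singleton'.2 ⟨c, mul_comm _ _⟩⟩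
  rw [hr (r + 1) (Nat.le_succ r), Nat.add_sub_cancel_left, pow_one] at h1
  have h2 : b ^ (k + 1) * c ∈ J * Ideal.span {b ^ (k + 1)} :=
    (Submodule.smul_mono le_rfl (inf_le_right : (_ : Submodule A A) ≤ Ideal.span {b ^ (k + 1)})) h1
  obtain ⟨j, hj, hjc⟩ := Ideal.mem_mul_span_singleton.1 h2
  have h3 : c - j ∈ K (k + 1) := by
    show b ^ (k + 1) * (c - j) = 0
    rw [mul_sub, ← hjc, mul_comm j, sub_self]
  rw [← hk (k + 1) (Nat.le_succ k)] at h3
  have h4 : b ^ k * (c - j) = 0 := h3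
  rw [mul_sub, sub_eq_zero] at h4
  rw [h4]
  exact J.mul_mem_left _ hj

/-- The division on the presentation of the kernel. -/
noncomputable def divLin {J7 J6 : Ideal A} (b : A) (k : ℕ)
    (h : ∀ c : A, b ^ (k + 1) * c ∈ J7 → b ^ k * c ∈ J6) :
    (A ⧸ LinearMap.ker (mulB J7 (b ^ (k + 1)))) →ₗ[A] A ⧸ J6 :=
  Submodule.liftQ (LinearMap.ker (mulB J7 (b ^ (k + 1))))
    (Submodule.mkQ J6 ∘ₗ LinearMap.mulLeft A (b ^ k)) fun c hc =>
      (Submodule.Quotient.mk_eq_zero _).2 (h c ((mulB_eq_zero_iff J7 _ c).1 (LinearMap.mem_ker.1 hc)))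

/-- The division map. -/
noncomputable def divMap {J7 J6 : Ideal A} (b : A) (k : ℕ)
    (h : ∀ c : A, b ^ (k + 1) * c ∈ J7 → b ^ k * c ∈ J6) : (seqJ J7 (b ^ (k + 1))).X₁ ⟶ qJ J6 :=
  ModuleCat.ofHom (divLin b k h ∘ₗ
    ((mulB J7 (b ^ (k + 1))).quotKerEquivOfSurjective (mulB_surjective _ _)).symm.toLinearMap)

theorem divMap_mulB {J7 J6 : Ideal A} (b : A) (k : ℕ)
    (h : ∀ c : A, b ^ (k + 1) * c ∈ J7 → b ^ k * c ∈ J6) (c : A) :
    (divMap b k h).hom (mulB J7 (b ^ (k + 1)) c) = Submodule.Quotient.mk (b ^ k * c) := by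
  have h1 : ((mulB J7 (b ^ (k + 1))).quotKerEquivOfSurjective (mulB_surjective _ _)).symm
      (mulB J7 (b ^ (k + 1)) c) = Submodule.Quotient.mk c := by
    rw [LinearEquiv.symm_apply_eq]
    rfl
  exact (congrArg (divLin b k h) h1).trans rfl

/-- A class killed by an element comes from a level containing a power of it. -/
theorem exists_of_smul_eq_zero (J : Ideal A) (x : Abelian.Ext (qJ J) M i) (b : A) (hb : b • x = 0) :
    ∃ (m n : ℕ) (h : J ^ (m + 1) ≤ J) (x' : Abelian.Ext (qJ (J ^ (m + 1) ⊔ Ideal.span {b ^ (n + 1)})) M i),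
      pull h x = pull le_sup_left x' := by
  obtain ⟨m, k, hmk⟩ := exists_cancel b J
  have h : J ^ (m + 1) ≤ J := Ideal.pow_le_self (by omega)
  refine ⟨m, k, h, ?_⟩
  let S7 := seqJ (J ^ (m + 1)) (b ^ (k + 1))
  have e : S7.f ≫ rq h = b • divMap b k hmk := by
    refine ModuleCat.hom_ext (LinearMap.ext fun z => ?_)
    obtain ⟨c, rfl⟩ := mulB_surjective _ _ z
    show (Submodule.Quotient.mk (b ^ (k + 1) * c) : A ⧸ J) = b • (divMap b k hmk).hom (mulB _ _ c)
    rw [divMap_mulB, ← Submodule.Quotient.mk_smul, smul_eq_mul, pow_succ', mul_assoc]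
  have h0 : (Abelian.Ext.mk₀ S7.f).comp (pull h x) (zero_add i) = 0 := by
    refine (Abelian.Ext.mk₀_comp_mk₀_assoc S7.f (rq h) x).trans ?_
    rw [e, Abelian.Ext.mk₀_smul, Abelian.Ext.smul_comp, ← Abelian.Ext.comp_smul, hb, Abelian.Ext.comp_zero]
  obtain ⟨x', hx'⟩ := Abelian.Ext.contravariant_sequence_exact₂ (seqJ_shortExact (J ^ (m + 1)) (b ^ (k + 1))) M
    (pull h x) h0
  exact ⟨x', hx'.symm⟩

/-- A class dying without the element dies with a bigger element after killing the connecting class. -/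
theorem exists_pull_eq_zero {j : ℕ} (J : Ideal A) (b : A) (x : Abelian.Ext (qJ (J ⊔ Ideal.span {b})) M (j + 1))
    (hx : pull le_sup_left x = 0) :
    ∃ w : Abelian.Ext (qJ J) M j, ∀ (M' : ModuleCat.{u} A) (g : M ⟶ M') (n : ℕ) (hn : J ^ (n + 1) ≤ J) (s : A),
      s • (pull hn w).comp (Abelian.Ext.mk₀ g) (add_zero j) = 0 →
      ∃ (N m : ℕ) (h : J ^ (N + 1) ⊔ Ideal.span {(b * s) ^ (m + 1)} ≤ J ⊔ Ideal.span {b}),
        (pull h x).comp (Abelian.Ext.mk₀ g) (add_zero (j + 1)) = 0 := by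
  obtain ⟨v, hv⟩ := Abelian.Ext.contravariant_sequence_exact₃ (seqJ_shortExact J b) M x hx (n₀ := j) (add_comm 1 j)
  refine ⟨(Abelian.Ext.mk₀ (mu J b)).comp v (zero_add j), fun M' g n hn s hs => ?_⟩
  obtain ⟨m, k, hmk⟩ := exists_cancel (b * s) (J ^ (n + 1))
  obtain ⟨N, hN⟩ : ∃ N, (n + 1) * (m + 1) = N + 1 := ⟨(n + 1) * (m + 1) - 1, by
    have : 0 < (n + 1) * (m + 1) := Nat.mul_pos (Nat.succ_pos n) (Nat.succ_pos m)
    omega⟩
  have hmk' : ∀ c : A, (b * s) ^ (k + 1) * c ∈ J ^ (N + 1) → (b * s) ^ k * c ∈ J ^ (n + 1) := fun c hc =>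
    hmk c (by rwa [← pow_mul, hN])
  have h7 : J ^ (N + 1) ≤ J := Ideal.pow_le_self (by omega)
  have hbs : (b * s) ^ (k + 1) ∈ J ⊔ Ideal.span {b} :=
    Ideal.mem_sup_right (Ideal.mem_span_singleton'.2 ⟨s * (b * s) ^ k, by ring⟩)
  have hle : J ^ (N + 1) ⊔ Ideal.span {(b * s) ^ (k + 1)} ≤ J ⊔ Ideal.span {b} :=
    sup_le (h7.trans le_sup_left) ((Ideal.span_singleton_le_iff_mem _).2 hbs)
  refine ⟨N, k, hle, ?_⟩
  let τ₁ : (seqJ (J ^ (N + 1)) ((b * s) ^ (k + 1))).X₁ ⟶ (seqJ J b).X₁ :=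
    s • (divMap (b * s) k hmk' ≫ rq hn ≫ mu J b)
  let τ : seqJ (J ^ (N + 1)) ((b * s) ^ (k + 1)) ⟶ seqJ J b :=
    { τ₁ := τ₁
      τ₂ := rq h7
      τ₃ := rq hle
      comm₁₂ := by
        refine ModuleCat.hom_ext (LinearMap.ext fun z => ?_)
        obtain ⟨c, rfl⟩ := mulB_surjective _ _ z
        show Subtype.val (show LinearMap.ker (rq (le_sup_left : J ≤ J ⊔ Ideal.span {b})).hom from
          (s • ((mu J b).hom ((rq hn).hom ((divMap (b * s) k hmk').hom (mulB _ _ c)))))) =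
          (Submodule.Quotient.mk ((b * s) ^ (k + 1) * c) : A ⧸ J)
        rw [divMap_mulB]
        show s • (Submodule.Quotient.mk (b * ((b * s) ^ k * c)) : A ⧸ J) = _
        rw [← Submodule.Quotient.mk_smul, smul_eq_mul]
        congr 1
        ring
      comm₂₃ := by
        refine ModuleCat.hom_ext (LinearMap.ext fun z => ?_)
        obtain ⟨c, rfl⟩ := Submodule.Quotient.mk_surjective _ z
        rfl }
  have hnat := ShortComplex.ShortExact.extClass_naturality (seqJ_shortExact (J ^ (N + 1)) ((b * s) ^ (k + 1)))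
    (seqJ_shortExact J b) τ
  have hz : ((Abelian.Ext.mk₀ τ₁).comp v (zero_add j)).comp (Abelian.Ext.mk₀ g) (add_zero j) = 0 := by
    have e : (Abelian.Ext.mk₀ τ₁).comp v (zero_add j) = s • (Abelian.Ext.mk₀ (divMap (b * s) k hmk')).comp
        (pull hn ((Abelian.Ext.mk₀ (mu J b)).comp v (zero_add j))) (zero_add j) := by
      unfold pull
      simp only [τ₁, Abelian.Ext.mk₀_smul, Abelian.Ext.smul_comp, ← Abelian.Ext.mk₀_comp_mk₀_assoc]
    rw [e, Abelian.Ext.smul_comp, Abelian.Ext.comp_assoc _ _ _ (zero_add j) (add_zero j) (by simp),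
      ← Abelian.Ext.comp_smul, hs, Abelian.Ext.comp_zero]
  subst hv
  show (((Abelian.Ext.mk₀ τ.τ₃).comp ((seqJ_shortExact J b).extClass.comp v (add_comm 1 j)) (zero_add (j + 1))).comp
    (Abelian.Ext.mk₀ g) (add_zero (j + 1)) : Abelian.Ext (seqJ (J ^ (N + 1)) ((b * s) ^ (k + 1))).X₃ M' (j + 1)) = 0
  rw [← Abelian.Ext.comp_assoc _ _ _ (zero_add 1) (add_comm 1 j) (by omega), ← hnat,
    Abelian.Ext.comp_assoc_of_second_deg_zero, Abelian.Ext.comp_assoc_of_third_deg_zero, hz, Abelian.Ext.comp_zero]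

end Groth.Agent.GrLib8.PointT
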