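import Groth.Agent.GrLib8.PointT.Loc
import Groth.Agent.GrLib8.PointT.Level
import Groth.Agent.LC.CohBasic
import Groth.Agent.LC.CohDerived
import Mathlib.RingTheory.Localization.Ideal

/-!
# The class at a minimal prime of the level
-/

set_option autoImplicit false
set_option linter.style.haveILetI false

universe u

open CategoryTheory Limits

namespace Groth.Agent.GrLib8.PointT

variable {A : Type u} [CommRing A] (p : PrimeSpectrum A)

/-- The local ring. -/
abbrev Rp := Localization.AtPrime p.asIdeal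

/-- The maximal ideal. -/
abbrev mp : Ideal (Rp p) := IsLocalRing.maximalIdeal (Rp p)

/-- Localisation at the prime. -/
noncomputable abbrev Fp : ModuleCat.{u} A ⥤ ModuleCat.{u} (Rp p) := lF p.asIdeal.primeCompl

/-- The image of `1`. -/
noncomputable abbrev one_ (J : Ideal A) : LocalizedModule p.asIdeal.primeCompl (A ⧸ J) :=
  LocalizedModule.mk (Submodule.Quotient.mk (1 : A)) 1

/-- The generator map from a level of the local ring. -/
noncomputable def uJ (J : Ideal A) (n : ℕ) (hn : mp p ^ n ≤ J.map (algebraMap A (Rp p))) :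
    LC.qObj (mp p) n ⟶ (Fp p).obj (qJ J) :=
  ModuleCat.ofHom (Submodule.liftQ _ (LinearMap.toSpanSingleton (Rp p) _ (one_ p J)) fun c hc =>
    LinearMap.mem_ker.2 (by
      have hle : J.map (algebraMap A (Rp p)) ≤ Ideal.torsionOf (Rp p) _ (one_ p J) := by
        refine Ideal.map_le_iff_le_comap.2 fun a ha => ?_
        rw [Ideal.mem_comap, Ideal.mem_torsionOf_iff, algebraMap_smul]
        show a • LocalizedModule.mk (Submodule.Quotient.mk (1 : A) : A ⧸ J) (1 : p.asIdeal.primeCompl) = 0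
        rw [LocalizedModule.smul'_mk, ← Submodule.Quotient.mk_smul,
          (Submodule.Quotient.mk_eq_zero _).2 (by simpa using ha), LocalizedModule.zero_mk]
      exact (Ideal.mem_torsionOf_iff _ _).1 (hle (hn hc))))

theorem uJ_one (J : Ideal A) (n : ℕ) (hn : mp p ^ n ≤ J.map (algebraMap A (Rp p))) :
    (uJ p J n hn).hom (Ideal.Quotient.mk _ 1) = one_ p J := one_smul (Rp p) _

/-- The comparison with a level of the local ring. -/
noncomputable def rJ (J : Ideal A) (m : ℕ) (hm : J.map (algebraMap A (Rp p)) ≤ mp p ^ m) :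
    (Fp p).obj (qJ J) ⟶ LC.qObj (mp p) m :=
  ModuleCat.ofHom (LinearMap.extendScalarsOfIsLocalization p.asIdeal.primeCompl (Rp p)
    (LocalizedModule.lift p.asIdeal.primeCompl
      (Submodule.liftQ J ((Submodule.mkQ (mp p ^ m)).restrictScalars A ∘ₗ (Algebra.linearMap A (Rp p))) fun a ha =>
        LinearMap.mem_ker.2 ((Submodule.Quotient.mk_eq_zero _).2 (hm (Ideal.mem_map_of_mem _ ha))))
      fun s => (Module.End.isUnit_iff _).2 (by
        have hu := IsLocalization.map_units (Rp p) s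
        refine ⟨fun x y hxy => hu.smul_left_cancel.1 ?_, fun y => ⟨(↑hu.unit⁻¹ : Rp p) • y, ?_⟩⟩
        · rw [algebraMap_smul, algebraMap_smul]; exact hxy
        · show (s : A) • ((↑hu.unit⁻¹ : Rp p) • y) = y
          rw [← algebraMap_smul (Rp p), ← mul_smul, hu.mul_val_inv, one_smul])))

theorem rJ_one (J : Ideal A) (m : ℕ) (hm : J.map (algebraMap A (Rp p)) ≤ mp p ^ m) :
    (rJ p J m hm).hom (one_ p J) = Ideal.Quotient.mk _ 1 := by
  have h := LinearMap.congr_fun (LocalizedModule.lift_comp p.asIdeal.primeCompl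
    (Submodule.liftQ J ((Submodule.mkQ (mp p ^ m)).restrictScalars A ∘ₗ (Algebra.linearMap A (Rp p))) fun a ha =>
      LinearMap.mem_ker.2 ((Submodule.Quotient.mk_eq_zero _).2 (hm (Ideal.mem_map_of_mem _ ha))))
    (fun s => (Module.End.isUnit_iff _).2 (by
        have hu := IsLocalization.map_units (Rp p) s
        refine ⟨fun x y hxy => hu.smul_left_cancel.1 ?_, fun y => ⟨(↑hu.unit⁻¹ : Rp p) • y, ?_⟩⟩
        · rw [algebraMap_smul, algebraMap_smul]; exact hxy
        · show (s : A) • ((↑hu.unit⁻¹ : Rp p) • y) = y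
          rw [← algebraMap_smul (Rp p), ← mul_smul, hu.mul_val_inv, one_smul])))
    (Submodule.Quotient.mk (1 : A))
  refine h.trans ?_
  show Submodule.Quotient.mk (algebraMap A (Rp p) 1) = _
  rw [map_one]
  rfl

theorem Fp_hom_ext {J : Ideal A} {N : ModuleCat.{u} (Rp p)} {f g : (Fp p).obj (qJ J) ⟶ N}
    (h : f.hom (one_ p J) = g.hom (one_ p J)) : f = g := by
  refine ModuleCat.hom_ext (LinearMap.ext fun z => ?_)
  induction z using LocalizedModule.induction_on with
  | h z t =>
    obtain ⟨r, rfl⟩ := Submodule.Quotient.mk_surjective _ z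
    have e : LocalizedModule.mk (Submodule.Quotient.mk r : A ⧸ J) t =
        (Localization.mk r t : Rp p) • one_ p J := by
      rw [one_, LocalizedModule.mk_smul_mk, ← Submodule.Quotient.mk_smul, smul_eq_mul, mul_one, mul_one]
    rw [e]
    exact (f.hom.map_smul _ _).trans ((congrArg _ h).trans (g.hom.map_smul _ _).symm)

theorem Fp_rq_one {J' J : Ideal A} (h : J' ≤ J) : ((Fp p).map (rq h)).hom (one_ p J') = one_ p J :=
  lF_map_mk p.asIdeal.primeCompl (rq h) _ _

variable [IsNoetherianRing A]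

theorem exists_pow_le_map {J : Ideal A} (hp : p.asIdeal ∈ J.minimalPrimes) :
    ∃ n, mp p ^ n ≤ J.map (algebraMap A (Rp p)) := by
  have hrad : mp p ≤ (J.map (algebraMap A (Rp p))).radical := by
    rw [Ideal.radical_eq_sInf]
    refine le_sInf fun P hP => ?_
    haveI := hP.2
    have h1 : P.comap (algebraMap A (Rp p)) ≤ p.asIdeal :=
      (Ideal.comap_mono (IsLocalRing.le_maximalIdeal hP.2.ne_top)).trans_eq
        (IsLocalization.AtPrime.comap_maximalIdeal (Rp p) p.asIdeal)
    have h3 : p.asIdeal ≤ P.comap (algebraMap A (Rp p)) :=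
      hp.2 ⟨inferInstance, Ideal.map_le_iff_le_comap.1 hP.1⟩ h1
    exact (Localization.AtPrime.map_eq_maximalIdeal (I := p.asIdeal)).symm.trans_le
      ((Ideal.map_mono h3).trans Ideal.map_comap_le)
  haveI : IsNoetherianRing (Rp p) := IsLocalization.isNoetherianRing p.asIdeal.primeCompl _ inferInstance
  exact Ideal.exists_pow_le_of_le_radical_of_fg hrad (IsNoetherian.noetherian _)

variable {i : ℕ} {M M' : ModuleCat.{u} A}

/-- The class at a minimal prime. -/
theorem exists_cl (J : Ideal A) (hp : p.asIdeal ∈ J.minimalPrimes) (x : Abelian.Ext (qJ J) M i) :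
    ∃ z : (localCohomology (mp p) i).obj ((Fp p).obj M),
      (∀ (M' : ModuleCat.{u} A) (g : M ⟶ M'), ((localCohomology (mp p) i).map ((Fp p).map g)).hom z = 0 →
        ∃ (n : ℕ) (hn : J ^ (n + 1) ≤ J) (s : A), s ∉ p.asIdeal ∧
          s • (pull hn x).comp (Abelian.Ext.mk₀ g) (add_zero i) = 0) ∧
      (∀ (M' : ModuleCat.{u} A) (g : M ⟶ M') (J' : Ideal A) (h : J' ≤ J), p.asIdeal ∈ J'.minimalPrimes →
        pull h (x.comp (Abelian.Ext.mk₀ g) (add_zero i)) = 0 →
          ((localCohomology (mp p) i).map ((Fp p).map g)).hom z = 0) := by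
  obtain ⟨n, hn⟩ := exists_pow_le_map p hp
  let u := uJ p J n hn
  refine ⟨LC.toH (mp p) i _ n ((Abelian.Ext.mk₀ u).comp (x.mapExactFunctor (Fp p)) (zero_add i)), fun M' g hz => ?_,
    fun M' g J' h hp' hx => ?_⟩
  · rw [LC.toH_natural, Abelian.Ext.comp_assoc _ _ _ (zero_add i) (add_zero i) (by simp),
      ← Abelian.Ext.mapExactFunctor_mk₀ (Fp p) g, ← Abelian.Ext.mapExactFunctor_comp, LC.toH_eq_zero_iff] at hz
    obtain ⟨m, hm, hm0⟩ := hz
    rw [LC.res_apply] at hm0
    have hJm : (J ^ (m + 1)).map (algebraMap A (Rp p)) ≤ mp p ^ m := by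
      rw [Ideal.map_pow]
      refine (Ideal.pow_le_pow_right (Nat.le_succ m)).trans (Ideal.pow_right_mono ?_ m)
      exact (Ideal.map_mono hp.1.2).trans_eq (Localization.AtPrime.map_eq_maximalIdeal (I := p.asIdeal))
    have h1 : J ^ (m + 1) ≤ J := Ideal.pow_le_self (by omega)
    have e : (Fp p).map (rq h1) = rJ p _ m hJm ≫ LC.qMap (mp p) hm ≫ u := by
      refine Fp_hom_ext p ((Fp_rq_one p h1).trans ?_)
      show one_ p J = u.hom ((LC.qMap (mp p) hm).hom ((rJ p _ m hJm).hom (one_ p (J ^ (m + 1)))))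
      rw [rJ_one, LC.qMap_mk]
      exact (uJ_one p J n hn).symm
    have h2 : (pull h1 (x.comp (Abelian.Ext.mk₀ g) (add_zero i))).mapExactFunctor (Fp p) = 0 := by
      rw [pull, Abelian.Ext.mapExactFunctor_comp, Abelian.Ext.mapExactFunctor_mk₀, e,
        ← Abelian.Ext.mk₀_comp_mk₀_assoc, ← Abelian.Ext.mk₀_comp_mk₀_assoc, hm0, Abelian.Ext.comp_zero]
    obtain ⟨s, hs, hs0⟩ := exists_smul_eq_zero p.asIdeal.primeCompl i (qJ (J ^ (m + 1))) M' _ h2
    exact ⟨m, h1, s, hs, by rwa [pull_comp] at hs0⟩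
  · rw [LC.toH_natural, Abelian.Ext.comp_assoc _ _ _ (zero_add i) (add_zero i) (by simp),
      ← Abelian.Ext.mapExactFunctor_mk₀ (Fp p) g, ← Abelian.Ext.mapExactFunctor_comp, LC.toH_eq_zero_iff]
    obtain ⟨n', hn'⟩ := exists_pow_le_map p hp'
    refine ⟨max n n', le_max_left _ _, ?_⟩
    have hn'' : mp p ^ max n n' ≤ J'.map (algebraMap A (Rp p)) :=
      (Ideal.pow_le_pow_right (le_max_right n n')).trans hn'
    have e : LC.qMap (mp p) (le_max_left n n') ≫ u = uJ p J' (max n n') hn'' ≫ (Fp p).map (rq h) := by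
      refine LC.qObj_hom_ext _ ?_
      show u.hom ((LC.qMap (mp p) (le_max_left n n')).hom (Ideal.Quotient.mk _ 1)) =
        ((Fp p).map (rq h)).hom ((uJ p J' (max n n') hn'').hom (Ideal.Quotient.mk _ 1))
      rw [LC.qMap_mk]
      refine (uJ_one p J n hn).trans ((Fp_rq_one p h).symm.trans ?_)
      exact congrArg (fun q => ((Fp p).map (rq h)).hom q) (uJ_one p J' (max n n') hn'').symm
    have h2 : (pull h (x.comp (Abelian.Ext.mk₀ g) (add_zero i))).mapExactFunctor (Fp p) = 0 := by
      rw [hx]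
      exact map_zero ((Fp p).mapExtAddHom _ _ _)
    rw [pull, Abelian.Ext.mapExactFunctor_comp, Abelian.Ext.mapExactFunctor_mk₀] at h2
    rw [LC.res_apply]
    refine (Abelian.Ext.mk₀_comp_mk₀_assoc _ u _).trans ?_
    rw [e, ← Abelian.Ext.mk₀_comp_mk₀_assoc, h2, Abelian.Ext.comp_zero]

end Groth.Agent.GrLib8.PointT
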