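import Mathlib.Algebra.Homology.DerivedCategory.Ext.Map
import Mathlib.Algebra.Homology.DerivedCategory.Ext.EnoughProjectives
import Mathlib.Algebra.Category.ModuleCat.Localization
import Mathlib.RingTheory.Localization.AtPrime.Basic
import Groth.Agent.LC.ExtLoc

/-!
# Localisation of Ext classes with arbitrary coefficients
-/

set_option autoImplicit false
set_option linter.style.haveILetI false

universe u

open CategoryTheory Limits

namespace Groth.Agent.GrLib8.PointT

variable {A : Type u} [CommRing A] (S : Submonoid A)

/-- Localisation of modules as a functor. -/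
noncomputable def lF : ModuleCat.{u} A ⥤ ModuleCat.{u} (Localization S) where
  obj M := ModuleCat.of (Localization S) (LocalizedModule S M)
  map f := ModuleCat.ofHom (LocalizedModule.map S f.hom)
  map_id M := ModuleCat.hom_ext (LinearMap.ext fun z => by
    induction z using LocalizedModule.induction_on with
    | h z s =>
      show LocalizedModule.map S (𝟙 M : M ⟶ M).hom (LocalizedModule.mk z s) = LocalizedModule.mk z s
      rw [LocalizedModule.map_mk]
      rfl)
  map_comp {M M' M''} f g := ModuleCat.hom_ext (LinearMap.ext fun z => by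
    induction z using LocalizedModule.induction_on with
    | h z s =>
      show LocalizedModule.map S (f ≫ g).hom (LocalizedModule.mk z s) =
        LocalizedModule.map S g.hom (LocalizedModule.map S f.hom (LocalizedModule.mk z s))
      rw [LocalizedModule.map_mk, LocalizedModule.map_mk, LocalizedModule.map_mk]
      rfl)

theorem lF_map_mk {M N : ModuleCat.{u} A} (f : M ⟶ N) (z : M) (s : S) :
    ((lF S).map f).hom (LocalizedModule.mk z s) = LocalizedModule.mk (f.hom z) s :=
  LocalizedModule.map_mk S f.hom z s

instance : (lF S).Additive where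
  map_add {M N f g} := ModuleCat.hom_ext (map_add (LocalizedModule.map S) f.hom g.hom)

theorem lF_map_exact (T : ShortComplex (ModuleCat.{u} A)) (h : T.Exact) : (T.map (lF S)).Exact := by
  rw [CategoryTheory.ShortComplex.ShortExact.moduleCat_exact_iff_function_exact] at h ⊢
  exact LocalizedModule.map_exact S _ _ h

instance : PreservesFiniteLimits (lF S) := by
  have := ((Functor.exact_tfae _).out 1 3).mp (lF_map_exact S)
  exact this.1

instance : PreservesFiniteColimits (lF S) := by
  have := ((Functor.exact_tfae _).out 1 3).mp (lF_map_exact S)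
  exact this.2

theorem projective_lF_free (n : ℕ) : Projective ((lF S).obj (ModuleCat.of A (Fin n → A))) := by
  haveI : Module.Projective (Localization S) (LocalizedModule S (Fin n → A)) :=
    Module.projective_of_isLocalizedModule S (LocalizedModule.mkLinearMap S (Fin n → A))
  exact (IsProjective.iff_projective (R := Localization S) (LocalizedModule S (Fin n → A))).1 inferInstance

variable [IsNoetherianRing A]

theorem exists_smul_hom_eq_zero {N M : ModuleCat.{u} A} [Module.Finite A N] (f : N ⟶ M) (h : (lF S).map f = 0) :
    ∃ t ∈ S, t • f = 0 := by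
  classical
  obtain ⟨k, g, hg⟩ := Module.Finite.exists_fin (R := A) (M := N)
  have hz : ∀ j, ∃ t ∈ S, t • f.hom (g j) = 0 := fun j => by
    have h1 : LocalizedModule.mk (f.hom (g j)) (1 : S) = LocalizedModule.mk (0 : M) 1 := by
      rw [LocalizedModule.zero_mk, ← lF_map_mk, h]
      rfl
    obtain ⟨c, hc⟩ := LocalizedModule.mk_eq.1 h1
    refine ⟨c, c.2, ?_⟩
    simp only [Submonoid.smul_def, OneMemClass.coe_one, one_smul, smul_zero] at hc
    exact hc
  choose t ht htz using hz
  refine ⟨∏ j, t j, Submonoid.prod_mem S fun j _ => ht j, ModuleCat.hom_ext (LinearMap.ext_on_range hg fun j => ?_)⟩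
  show (∏ j, t j) • f.hom (g j) = 0
  rw [← Finset.prod_erase_mul _ _ (Finset.mem_univ j), mul_smul, htz, smul_zero]

/-- A class dying after localisation is killed by an element of the submonoid. -/
theorem exists_smul_eq_zero (i : ℕ) : ∀ (N : ModuleCat.{u} A) [Module.Finite A N] (M : ModuleCat.{u} A)
    (x : Abelian.Ext N M i), x.mapExactFunctor (lF S) = 0 → ∃ t ∈ S, t • x = 0 := by
  induction i with
  | zero =>
    intro N _ M x hx
    obtain ⟨f, rfl⟩ := (Abelian.Ext.mk₀_bijective N M).2 x
    rw [Abelian.Ext.mapExactFunctor_mk₀] at hx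
    obtain ⟨t, ht, h⟩ := exists_smul_hom_eq_zero S f ((Abelian.Ext.mk₀_bijective _ _).1 (hx.trans (Abelian.Ext.mk₀_zero _ _).symm))
    exact ⟨t, ht, by rw [← Abelian.Ext.mk₀_smul, h, Abelian.Ext.mk₀_zero]⟩
  | succ i ih =>
    intro N _ M x hx
    obtain ⟨n, π, hπ⟩ := LC.exists_fin_presentation (R := A) N
    let K := LinearMap.ker π
    let T : ShortComplex (ModuleCat.{u} A) := ShortComplex.mk (X₁ := ModuleCat.of A K)
      (X₂ := ModuleCat.of A (Fin n → A)) (X₃ := N)
      (ModuleCat.ofHom K.subtype) (ModuleCat.ofHom π)
      (ModuleCat.hom_ext (LinearMap.ext fun z => z.2))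
    have hT : T.ShortExact :=
      { exact := (ShortComplex.ShortExact.moduleCat_exact_iff_function_exact _).2 (LinearMap.exact_subtype_ker_map π)
        mono_f := (ModuleCat.mono_iff_injective _).2 Subtype.val_injective
        epi_g := (ModuleCat.epi_iff_surjective _).2 hπ }
    haveI : Module.Finite A K := Module.Finite.iff_fg.2 (IsNoetherian.noetherian K)
    haveI : Module.Finite A T.X₁ := inferInstanceAs (Module.Finite A K)
    haveI hproj : Projective T.X₂ := (IsProjective.iff_projective (R := A) (Fin n → A)).1 inferInstance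
    haveI hprojS : Projective (T.map (lF S)).X₂ := projective_lF_free S n
    obtain ⟨y, hy⟩ := Abelian.Ext.contravariant_sequence_exact₃ hT M x (Abelian.Ext.eq_zero_of_projective _)
      (n₀ := i) (add_comm 1 i)
    rw [← hy, Abelian.Ext.mapExactFunctor_comp, Abelian.Ext.mapExactFunctor_extClass] at hx
    obtain ⟨w, hw⟩ := Abelian.Ext.contravariant_sequence_exact₁ (hT.map_of_exact (lF S)) _ _ (add_comm 1 i) hx
    rcases i with _ | j
    · obtain ⟨h, rfl⟩ := (Abelian.Ext.mk₀_bijective T.X₁ M).2 y
      obtain ⟨g, rfl⟩ := (Abelian.Ext.mk₀_bijective _ _).2 w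
      rw [Abelian.Ext.mapExactFunctor_mk₀, Abelian.Ext.mk₀_comp_mk₀] at hw
      have hw' : (lF S).map T.f ≫ g = (lF S).map h := (Abelian.Ext.mk₀_bijective _ _).1 hw
      haveI : Module.FinitePresentation A (Fin n → A) := Module.finitePresentation_of_finite A _
      let g' : LocalizedModule S (Fin n → A) →ₗ[Localization S] LocalizedModule S M := g.hom
      obtain ⟨g₀, s, hs⟩ := Module.FinitePresentation.exists_lift_of_isLocalizedModule S
        (LocalizedModule.mkLinearMap S M)
        ((g'.restrictScalars A) ∘ₗ LocalizedModule.mkLinearMap S (Fin n → A))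
      have hd : (lF S).map ((s : A) • h - T.f ≫ ModuleCat.ofHom g₀) = 0 := by
        refine ModuleCat.hom_ext (LinearMap.ext fun z => ?_)
        induction z using LocalizedModule.induction_on with
        | h z t =>
          have ht : LocalizedModule.mk z t = (Localization.mk 1 t : Localization S) • LocalizedModule.mk z (1 : S) := by
            rw [LocalizedModule.mk_smul_mk, one_smul, mul_one]
          show ((lF S).map ((s : A) • h - T.f ≫ ModuleCat.ofHom g₀)).hom (LocalizedModule.mk z t) = 0
          rw [ht]
          refine (LinearMap.map_smul ((lF S).map ((s : A) • h - T.f ≫ ModuleCat.ofHom g₀)).hom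
            (Localization.mk 1 t : Localization S) (LocalizedModule.mk z (1 : S))).trans ?_
          rw [lF_map_mk]
          have h1 : LocalizedModule.mk (h.hom z) (1 : S) = g.hom (LocalizedModule.mk (T.f.hom z) (1 : S)) := by
            rw [← lF_map_mk S h, ← hw']
            show g.hom (((lF S).map T.f).hom (LocalizedModule.mk z 1)) = _
            rw [lF_map_mk]
          have h2 : LocalizedModule.mkLinearMap S M (g₀ (T.f.hom z)) =
              (s : A) • (show LocalizedModule S M from g.hom (LocalizedModule.mk (T.f.hom z) (1 : S))) :=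
            LinearMap.congr_fun hs (T.f.hom z)
          have h3 : LocalizedModule.mk (((s : A) • h - T.f ≫ ModuleCat.ofHom g₀).hom z) (1 : S) = 0 := by
            show LocalizedModule.mkLinearMap S M ((s : A) • h.hom z - g₀ (T.f.hom z)) = 0
            rw [map_sub, map_smul, h2, ← h1]
            exact sub_self _
          exact (congrArg (fun q : LocalizedModule S M => (Localization.mk 1 t : Localization S) • q) h3).trans
            (smul_zero (Localization.mk 1 t : Localization S))
      obtain ⟨t, ht, h0⟩ := exists_smul_hom_eq_zero S _ hd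
      refine ⟨t * s, S.mul_mem ht s.2, ?_⟩
      rw [← hy, ← Abelian.Ext.comp_smul, ← Abelian.Ext.mk₀_smul, mul_smul]
      rw [smul_sub, sub_eq_zero] at h0
      rw [h0, ← Linear.comp_smul, ← Abelian.Ext.mk₀_comp_mk₀, ← Abelian.Ext.comp_assoc_of_second_deg_zero,
        hT.extClass_comp, Abelian.Ext.zero_comp]
    · rw [Abelian.Ext.eq_zero_of_projective w, Abelian.Ext.comp_zero] at hw
      obtain ⟨t, ht, h0⟩ := ih T.X₁ M y hw.symm
      exact ⟨t, ht, by rw [← hy, ← Abelian.Ext.comp_smul, h0, Abelian.Ext.comp_zero]⟩

end Groth.Agent.GrLib8.PointT
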