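import Groth.Agent.GrLib8.PointT.Point

/-!
# Local cohomology with supports from the points of the support
-/

set_option autoImplicit false
set_option linter.style.haveILetI false

universe u

open CategoryTheory Limits

namespace Groth.Agent.GrLib8.PointT

open HTLib (Idx idl idl_zeroLocus mkIdx mkArr tH)

variable {A : Type u} [CommRing A]

/-- The generic points. -/
def gen (T : Set (PrimeSpectrum A)) : Set (PrimeSpectrum A) := {p | p ∈ T ∧ ∀ q ∈ T, q ≤ p → q = p}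

/-- The rest. -/
def rest (T : Set (PrimeSpectrum A)) : Set (PrimeSpectrum A) := T \ gen T

theorem rest_subset (T : Set (PrimeSpectrum A)) : rest T ⊆ T := Set.diff_subset

theorem stable_rest {T : Set (PrimeSpectrum A)} (hT : StableUnderSpecialization T) :
    StableUnderSpecialization (rest T) := by
  intro x y hxy hx
  refine ⟨hT hxy hx.1, fun hy => ?_⟩
  have h := hy.2 x hx.1 ((PrimeSpectrum.le_iff_specializes x y).2 hxy)
  exact hx.2 (h ▸ hy)

/-- Chains are shorter than `e`. -/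
def Bd (T : Set (PrimeSpectrum A)) (e : ℕ) : Prop := ∀ l : LTSeries T, l.length < e

theorem bd_rest {T : Set (PrimeSpectrum A)} {e : ℕ} (h : Bd T (e + 1)) : Bd (rest T) e := by
  intro l
  have hh : ¬ (l.head : PrimeSpectrum A) ∈ gen T := l.head.2.2
  obtain ⟨q, hqT, hq, hne⟩ : ∃ q ∈ T, q ≤ (l.head : PrimeSpectrum A) ∧ q ≠ l.head := by
    by_contra hc
    push Not at hc
    exact hh ⟨l.head.2.1, hc⟩
  let l' : LTSeries T := l.map (fun x => ⟨x.1, x.2.1⟩) (fun _ _ h => h)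
  have := h (l'.cons ⟨q, hqT⟩ (lt_of_le_of_ne hq hne :))
  rw [RelSeries.cons_length, LTSeries.map_length] at this
  omega

theorem eq_top_of_bd_zero {T : Set (PrimeSpectrum A)} (h : Bd T 0) {J : Ideal A}
    (hJ : PrimeSpectrum.zeroLocus (J : Set A) ⊆ T) : J = ⊤ := by
  by_contra hne
  obtain ⟨m, hm, hJm⟩ := Ideal.exists_le_maximal J hne
  exact Nat.not_lt_zero _ (h (RelSeries.singleton _ ⟨⟨m, hm.isPrime⟩, hJ hJm⟩))

theorem mem_minimalPrimes_of_gen {T : Set (PrimeSpectrum A)} {J : Ideal A}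
    (hJ : PrimeSpectrum.zeroLocus (J : Set A) ⊆ T) {p : PrimeSpectrum A} (hp : p ∈ gen T) (hJp : J ≤ p.asIdeal) :
    p.asIdeal ∈ J.minimalPrimes :=
  ⟨⟨p.isPrime, hJp⟩, fun q hq hle => (congrArg PrimeSpectrum.asIdeal (hp.2 ⟨q, hq.1⟩ (hJ hq.2) hle)).ge⟩

variable [IsNoetherianRing A] {T : Set (PrimeSpectrum A)}

theorem finite_gen (J : Ideal A) (hJ : PrimeSpectrum.zeroLocus (J : Set A) ⊆ T) :
    {p ∈ gen T | J ≤ p.asIdeal}.Finite :=
  ((Ideal.finite_minimalPrimes_of_isNoetherianRing A J).preimage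
    (fun _ _ _ _ h => PrimeSpectrum.ext h)).subset fun _ hp => mem_minimalPrimes_of_gen hJ hp.1 hp.2

/-- Avoiding the generic points over an ideal. -/
theorem exists_avoid (J L : Ideal A) (hJ : PrimeSpectrum.zeroLocus (J : Set A) ⊆ T)
    (h : ∀ p ∈ gen T, J ≤ p.asIdeal → ¬ L ≤ p.asIdeal) :
    ∃ b ∈ L, ∀ p ∈ gen T, J ≤ p.asIdeal → b ∉ p.asIdeal := by
  classical
  have hfin := finite_gen (T := T) J hJ
  by_contra hc
  push Not at hc
  have hsub : (L : Set A) ⊆ ⋃ p ∈ (↑hfin.toFinset : Set (PrimeSpectrum A)), (p.asIdeal : Set A) := by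
    intro b hb
    obtain ⟨p, hp, hJp, hbp⟩ := hc b hb
    exact Set.mem_biUnion (hfin.mem_toFinset.2 ⟨hp, hJp⟩) hbp
  rcases hfin.toFinset.eq_empty_or_nonempty with he | ⟨p₀, hp₀⟩
  · simpa [he] using hsub L.zero_mem
  obtain ⟨p, hp, hle⟩ := (Ideal.subset_union_prime p₀ p₀ fun i _ _ _ => i.isPrime).1 hsub
  exact h p (hfin.mem_toFinset.1 hp).1 (hfin.mem_toFinset.1 hp).2 hle

theorem zeroLocus_sup_subset_rest (hT : StableUnderSpecialization T) {J : Ideal A}
    (hJ : PrimeSpectrum.zeroLocus (J : Set A) ⊆ T) {b : A} (hb : ∀ p ∈ gen T, J ≤ p.asIdeal → b ∉ p.asIdeal)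
    (m n : ℕ) : PrimeSpectrum.zeroLocus ((J ^ (m + 1) ⊔ Ideal.span {b ^ (n + 1)} : Ideal A) : Set A) ⊆ rest T := by
  intro q hq
  have hle : J ^ (m + 1) ⊔ Ideal.span {b ^ (n + 1)} ≤ q.asIdeal := hq
  have hJq : J ≤ q.asIdeal := q.isPrime.le_of_pow_le (le_sup_left.trans hle)
  have hbq : b ∈ q.asIdeal :=
    q.isPrime.mem_of_pow_mem _ (hle (Ideal.mem_sup_right (Ideal.mem_span_singleton_self _)))
  exact ⟨hJ hJq, fun hg => hb q hg hJq hbq⟩

variable {i : ℕ} {M M' : ModuleCat.{u} A}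

theorem tH_pull {J' J : Ideal A} (h : J' ≤ J) (hJ' : PrimeSpectrum.zeroLocus (J' : Set A) ⊆ T)
    (hJ : PrimeSpectrum.zeroLocus (J : Set A) ⊆ T) (x : Abelian.Ext (qJ J) M i) :
    tH i M (mkIdx J' hJ') (pull h x) = tH i M (mkIdx J hJ) x :=
  HTLib.tH_rs i (mkArr (K := mkIdx J hJ) (K' := mkIdx J' hJ') h) x

theorem tH_eq_zero_iff' (J : Ideal A) (hJ : PrimeSpectrum.zeroLocus (J : Set A) ⊆ T) (x : Abelian.Ext (qJ J) M i) :
    tH i M (mkIdx J hJ) x = 0 ↔ ∃ (J' : Ideal A) (h : J' ≤ J),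
      PrimeSpectrum.zeroLocus (J' : Set A) ⊆ T ∧ pull h x = 0 := by
  rw [HTLib.tH_eq_zero_iff]
  constructor
  · rintro ⟨K', a, ha⟩
    exact ⟨idl K', HTLib.idl_le a, idl_zeroLocus K', ha⟩
  · rintro ⟨J', h, hJ', hx⟩
    exact ⟨mkIdx J' hJ', mkArr (K := mkIdx J hJ) (K' := mkIdx J' hJ') h, hx⟩

/-- A class vanishing at the generic points comes from the rest. -/
theorem exists_lift (hT : StableUnderSpecialization T) (J : Ideal A) (hJ : PrimeSpectrum.zeroLocus (J : Set A) ⊆ T)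
    (x : Abelian.Ext (qJ J) M i)
    (h : ∀ p ∈ gen T, J ≤ p.asIdeal → ∃ (n : ℕ) (hn : J ^ (n + 1) ≤ J) (s : A), s ∉ p.asIdeal ∧
      s • pull hn x = 0) :
    ∃ (J' : Ideal A) (hJ' : PrimeSpectrum.zeroLocus (J' : Set A) ⊆ rest T) (x' : Abelian.Ext (qJ J') M i),
      tH i M (mkIdx J' (hJ'.trans (rest_subset T))) x' = tH i M (mkIdx J hJ) x := by
  classical
  have hfin := finite_gen (T := T) J hJ
  choose n hn s hs hk using h
  obtain ⟨N, hN⟩ : ∃ N, ∀ p (hp : p ∈ gen T) (hJp : J ≤ p.asIdeal), n p hp hJp ≤ N :=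
    ⟨hfin.toFinset.attach.sup fun p => n p.1 (hfin.mem_toFinset.1 p.2).1 (hfin.mem_toFinset.1 p.2).2,
      fun p hp hJp => Finset.le_sup (f := fun p : {x // x ∈ hfin.toFinset} =>
        n p.1 (hfin.mem_toFinset.1 p.2).1 (hfin.mem_toFinset.1 p.2).2)
        (Finset.mem_attach _ ⟨p, hfin.mem_toFinset.2 ⟨hp, hJp⟩⟩)⟩
  have hJN : J ^ (N + 1) ≤ J := Ideal.pow_le_self (by omega)
  have hJNT : PrimeSpectrum.zeroLocus ((J ^ (N + 1) : Ideal A) : Set A) ⊆ T := HTLib.zeroLocus_pow_subset hJ _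
  let L : Ideal A :=
    { carrier := {c | c • pull hJN x = 0}
      zero_mem' := zero_smul _ _
      add_mem' := fun {a b} ha hb => by
        show (a + b) • pull hJN x = 0
        rw [add_smul, ha, hb, add_zero]
      smul_mem' := fun c a ha => by
        show (c * a) • pull hJN x = 0
        rw [mul_smul, ha, smul_zero] }
  obtain ⟨b, hbL, hb⟩ := exists_avoid (T := T) (J ^ (N + 1)) L hJNT fun p hp hle hL => by
    have hJp : J ≤ p.asIdeal := p.isPrime.le_of_pow_le hle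
    refine hs p hp hJp (hL ?_)
    have hle' : J ^ (N + 1) ≤ J ^ (n p hp hJp + 1) := Ideal.pow_le_pow_right (Nat.succ_le_succ (hN p hp hJp))
    show s p hp hJp • pull hJN x = 0
    rw [← pull_pull hle' (hn p hp hJp) x, pull, ← Abelian.Ext.comp_smul, hk p hp hJp, Abelian.Ext.comp_zero]
  obtain ⟨m, k, hm, x', hx'⟩ := exists_of_smul_eq_zero (J ^ (N + 1)) (pull hJN x) b hbL
  refine ⟨_, zeroLocus_sup_subset_rest hT hJNT hb m k, x', ?_⟩
  have hm' : PrimeSpectrum.zeroLocus (((J ^ (N + 1)) ^ (m + 1) : Ideal A) : Set A) ⊆ T :=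
    HTLib.zeroLocus_pow_subset hJNT _
  refine (tH_pull (le_sup_left : (J ^ (N + 1)) ^ (m + 1) ≤ _) hm'
    ((zeroLocus_sup_subset_rest hT hJNT hb m k).trans (rest_subset T)) x').symm.trans ?_
  refine (congrArg (fun y => tH i M (mkIdx _ hm') y) hx'.symm).trans ?_
  exact (tH_pull hm hm' hJNT (pull hJN x)).trans (tH_pull hJN hJNT hJ x)

/-- A class dying in the support dies in the rest after a map vanishing at the points one degree lower. -/
theorem eq_zero_rest (hT : StableUnderSpecialization T) (g : M ⟶ M')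
    (hloc : ∀ j : ℕ, j + 1 = i → ∀ p ∈ T, (localCohomology (mp p) j).map ((Fp p).map g) = 0)
    (J' : Ideal A) (hJ' : PrimeSpectrum.zeroLocus (J' : Set A) ⊆ rest T) (x : Abelian.Ext (qJ J') M i)
    (hx : tH i M (mkIdx J' (hJ'.trans (rest_subset T))) x = 0) :
    tH i M' (mkIdx J' hJ') (x.comp (Abelian.Ext.mk₀ g) (add_zero i)) = 0 := by
  classical
  obtain ⟨K, hK, hKT, hKx⟩ := (tH_eq_zero_iff' J' _ x).1 hx
  obtain ⟨b, hbJ', hb⟩ := exists_avoid (T := T) K J' hKT fun p hp _ hle => (hJ' hle).2 hp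
  have hle : K ⊔ Ideal.span {b} ≤ J' := sup_le hK ((Ideal.span_singleton_le_iff_mem _).2 hbJ')
  have hsub := zeroLocus_sup_subset_rest hT hKT hb
  rw [tH_eq_zero_iff']
  have hx1 : pull (le_sup_left : K ≤ K ⊔ Ideal.span {b}) (pull hle x) = 0 := by rw [pull_pull]; exact hKx
  rcases i with _ | j
  · have h0 : pull hle x = 0 :=
      Abelian.Ext.precomp_mk₀_injective_of_epi M (seqJ K b).g (hg := (seqJ_shortExact K b).epi_g)
        (hx1.trans (Abelian.Ext.comp_zero _ M 0 0 (zero_add 0)).symm)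
    refine ⟨K ⊔ Ideal.span {b}, hle, ?_, ?_⟩
    · simpa using hsub 0 0
    · rw [pull_comp, h0, Abelian.Ext.zero_comp]
  obtain ⟨w, hw⟩ := exists_pull_eq_zero K b (pull hle x) hx1
  have hpt : ∀ p ∈ gen T, K ≤ p.asIdeal → ∃ (n : ℕ) (hn : K ^ (n + 1) ≤ K) (s : A), s ∉ p.asIdeal ∧
      s • (pull hn w).comp (Abelian.Ext.mk₀ g) (add_zero j) = 0 := by
    intro p hp hKp
    obtain ⟨z, hz, -⟩ := exists_cl p K (mem_minimalPrimes_of_gen hKT hp hKp) w
    exact hz M' g (by rw [hloc j rfl p hp.1]; rfl)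
  have hfin := finite_gen (T := T) K hKT
  choose n hn s hs hk using hpt
  obtain ⟨N, hN⟩ : ∃ N, ∀ p (hp : p ∈ gen T) (hKp : K ≤ p.asIdeal), n p hp hKp ≤ N :=
    ⟨hfin.toFinset.attach.sup fun p => n p.1 (hfin.mem_toFinset.1 p.2).1 (hfin.mem_toFinset.1 p.2).2,
      fun p hp hKp => Finset.le_sup (f := fun p : {x // x ∈ hfin.toFinset} =>
        n p.1 (hfin.mem_toFinset.1 p.2).1 (hfin.mem_toFinset.1 p.2).2)
        (Finset.mem_attach _ ⟨p, hfin.mem_toFinset.2 ⟨hp, hKp⟩⟩)⟩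
  have hKN : K ^ (N + 1) ≤ K := Ideal.pow_le_self (by omega)
  let L : Ideal A :=
    { carrier := {c | c • (pull hKN w).comp (Abelian.Ext.mk₀ g) (add_zero j) = 0}
      zero_mem' := zero_smul _ _
      add_mem' := fun {a b} ha hb => by
        show (a + b) • _ = 0
        rw [add_smul, ha, hb, add_zero]
      smul_mem' := fun c a ha => by
        show (c * a) • _ = 0
        rw [mul_smul, ha, smul_zero] }
  obtain ⟨t, htL, ht⟩ := exists_avoid (T := T) K L hKT fun p hp hKp hL => by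
    refine hs p hp hKp (hL ?_)
    have hle' : K ^ (N + 1) ≤ K ^ (n p hp hKp + 1) := Ideal.pow_le_pow_right (Nat.succ_le_succ (hN p hp hKp))
    show s p hp hKp • (pull hKN w).comp (Abelian.Ext.mk₀ g) (add_zero j) = 0
    rw [← pull_pull hle' (hn p hp hKp) w, ← pull_comp]
    refine (Abelian.Ext.comp_smul _ _ _ _).symm.trans ?_
    rw [hk p hp hKp, Abelian.Ext.comp_zero]
  obtain ⟨N', m, hle7, h7⟩ := hw M' g N hKN t htL
  have hbt : ∀ p ∈ gen T, K ≤ p.asIdeal → b * t ∉ p.asIdeal := fun p hp hKp hm' =>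
    (p.isPrime.mem_or_mem hm').elim (hb p hp hKp) (ht p hp hKp)
  exact ⟨_, hle7.trans hle, zeroLocus_sup_subset_rest hT hKT hbt N' m, by
    rw [pull_comp, ← pull_pull hle7 hle x]; exact h7⟩

end Groth.Agent.GrLib8.PointT
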