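import Groth.Agent.GrLib8.PointT.Main

/-!
# Systems: vanishing and injectivity of images from the points
-/

set_option autoImplicit false
set_option linter.style.haveILetI false

universe u

open CategoryTheory Limits

namespace Groth.Agent.GrLib8.PointT

open HTLib (Idx idl idl_zeroLocus mkIdx mkArr tH HTo)

variable {A : Type u} [CommRing A] [IsNoetherianRing A] (M : ℕ → ModuleCat.{u} A)
  (g : ∀ k m : ℕ, m ≤ k → (M k ⟶ M m)) (i : ℕ) (m' : ℕ → ℕ)

omit [IsNoetherianRing A] in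
theorem tH_eq_zero_of_top {T : Set (PrimeSpectrum A)} (h : Bd T 0) {N : ModuleCat.{u} A} (K : Idx T)
    (x : Abelian.Ext (HTLib.qO K) N i) : tH i N K x = 0 := by
  have h1 : (1 : A) • x = 0 := HTLib.smul_ext_eq_zero i x (by
    rw [eq_top_of_bd_zero h (idl_zeroLocus K)]; trivial)
  rw [← one_smul A x, h1, map_zero]

/-- Composition with transition maps. -/
theorem comp_g (hg : ∀ (k l m : ℕ) (h₁ : m ≤ l) (h₂ : l ≤ k), g k m (h₁.trans h₂) = g k l h₂ ≫ g l m h₁)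
    {J : Ideal A} {k l m : ℕ} (h₁ : m ≤ l) (h₂ : l ≤ k) (y : Abelian.Ext (qJ J) (M k) i) :
    (y.comp (Abelian.Ext.mk₀ (g k l h₂)) (add_zero i)).comp (Abelian.Ext.mk₀ (g l m h₁)) (add_zero i) =
      y.comp (Abelian.Ext.mk₀ (g k m (h₁.trans h₂))) (add_zero i) := by
  rw [Abelian.Ext.comp_assoc_of_second_deg_zero, Abelian.Ext.mk₀_comp_mk₀, ← hg k l m h₁ h₂]

omit [IsNoetherianRing A] in
theorem tH_comp_congr {T : Set (PrimeSpectrum A)} {N N' : ModuleCat.{u} A} (f : N ⟶ N') {K K' : Idx T}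
    {x : Abelian.Ext (HTLib.qO K) N i} {x' : Abelian.Ext (HTLib.qO K') N i} (h : tH i N K x = tH i N K' x') :
    tH i N' K (x.comp (Abelian.Ext.mk₀ f) (add_zero i)) = tH i N' K' (x'.comp (Abelian.Ext.mk₀ f) (add_zero i)) := by
  rw [← HTLib.tH_natural, ← HTLib.tH_natural, h]

/-- Vanishing. -/
theorem vanish (hg : ∀ (k l m : ℕ) (h₁ : m ≤ l) (h₂ : l ≤ k), g k m (h₁.trans h₂) = g k l h₂ ≫ g l m h₁)
    (hm' : ∀ m, m ≤ m' m) : ∀ (e : ℕ) (T : Set (PrimeSpectrum A)), StableUnderSpecialization T → Bd T e →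
    (∀ p ∈ T, ∀ (m k : ℕ) (h : m ≤ k), m' m ≤ k → (localCohomology (mp p) i).map ((Fp p).map (g k m h)) = 0) →
    ∀ (m k : ℕ) (h : m ≤ k), (m'^[e]) m ≤ k → ∀ (K : Idx T) (y : Abelian.Ext (HTLib.qO K) (M k) i),
      tH i (M m) K (y.comp (Abelian.Ext.mk₀ (g k m h)) (add_zero i)) = 0 := by
  intro e
  induction e with
  | zero => intro T _ hbd _ m k h _ K y; exact tH_eq_zero_of_top i hbd K _
  | succ e ih =>
    intro T hT hbd hloc m k h hk K y
    obtain ⟨l, hl⟩ : ∃ l, l = (m'^[e]) m := ⟨_, rfl⟩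
    have hml : m ≤ l := hl ▸ Function.id_le_iterate_of_id_le (fun m => hm' m) e m
    have hlk : m' l ≤ k := by rwa [hl, ← Function.iterate_succ_apply' m' e m]
    have hlk' : l ≤ k := (hm' l).trans hlk
    have hJ : PrimeSpectrum.zeroLocus (idl K : Set A) ⊆ T := idl_zeroLocus K
    obtain ⟨J', hJ', x', hx'⟩ := exists_lift hT (idl K) hJ (y.comp (Abelian.Ext.mk₀ (g k l hlk')) (add_zero i))
      fun p hp hKp => by
        obtain ⟨z, hz, -⟩ := exists_cl p (idl K) (mem_minimalPrimes_of_gen hJ hp hKp) y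
        obtain ⟨n, hn, s, hs, h0⟩ := hz (M l) (g k l hlk') (by rw [hloc p hp.1 l k hlk' hlk]; rfl)
        exact ⟨n, hn, s, hs, by rwa [pull_comp]⟩
    have h1 := ih (rest T) (stable_rest hT) (bd_rest hbd) (fun p hp => hloc p hp.1) m l hml (le_of_eq hl.symm)
      (mkIdx J' hJ') x'
    obtain ⟨J'', h'', hJ'', h0⟩ := (tH_eq_zero_iff' J' hJ' _).1 h1
    have h2 : tH i (M m) (mkIdx J' (hJ'.trans (rest_subset T)))
        (x'.comp (Abelian.Ext.mk₀ (g l m hml)) (add_zero i)) = 0 :=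
      (tH_eq_zero_iff' J' (hJ'.trans (rest_subset T)) _).2 ⟨J'', h'', hJ''.trans (rest_subset T), h0⟩
    rw [← comp_g M g i hg hml hlk' y]
    exact ((tH_comp_congr i (g l m hml) hx').symm).trans h2

/-- Injectivity of stable images. -/
theorem inject (hg : ∀ (k l m : ℕ) (h₁ : m ≤ l) (h₂ : l ≤ k), g k m (h₁.trans h₂) = g k l h₂ ≫ g l m h₁)
    (hm' : ∀ m, m ≤ m' m) : ∀ (e : ℕ) (T : Set (PrimeSpectrum A)), StableUnderSpecialization T → Bd T e →
    (∀ j, j + 1 = i → ∀ p ∈ T, ∀ (m k : ℕ) (h : m ≤ k), m' m ≤ k →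
      (localCohomology (mp p) j).map ((Fp p).map (g k m h)) = 0) →
    (∀ p ∈ T, ∀ (m k : ℕ) (h : m ≤ k), m' m ≤ k → ∀ z,
      ((localCohomology (mp p) i).map ((Fp p).map (g m 0 (Nat.zero_le m)))).hom
          (((localCohomology (mp p) i).map ((Fp p).map (g k m h))).hom z) = 0 →
        ((localCohomology (mp p) i).map ((Fp p).map (g k m h))).hom z = 0) →
    ∃ m₀ : ℕ, ∀ m : ℕ, ∀ hm : m₀ ≤ m, ∃ m'' : ℕ, m ≤ m'' ∧ ∀ (k : ℕ) (h : m ≤ k), m'' ≤ k →
      ∀ (K : Idx T) (y : Abelian.Ext (HTLib.qO K) (M k) i),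
        tH i (M m₀) K (y.comp (Abelian.Ext.mk₀ (g k m₀ (hm.trans h))) (add_zero i)) = 0 →
        tH i (M m) K (y.comp (Abelian.Ext.mk₀ (g k m h)) (add_zero i)) = 0 := by
  intro e
  induction e with
  | zero =>
    intro T _ hbd _ _
    exact ⟨0, fun m _ => ⟨m, le_rfl, fun k h _ K y _ => tH_eq_zero_of_top i hbd K _⟩⟩
  | succ e ih =>
    intro T hT hbd hlow htop
    obtain ⟨m₁, h₁⟩ := ih (rest T) (stable_rest hT) (bd_rest hbd) (fun j hj p hp => hlow j hj p hp.1)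
      (fun p hp => htop p hp.1)
    refine ⟨m' m₁, fun m hm => ?_⟩
    obtain ⟨l, hml, hl⟩ := h₁ m ((hm' m₁).trans hm)
    refine ⟨m' l, hml.trans (hm' l), fun k h hk K y hy => ?_⟩
    have hlk : l ≤ k := (hm' l).trans hk
    have hJ : PrimeSpectrum.zeroLocus (idl K : Set A) ⊆ T := idl_zeroLocus K
    obtain ⟨K₁, hK₁, hK₁T, hK₁y⟩ := (tH_eq_zero_iff' (idl K) hJ _).1 hy
    obtain ⟨J', hJ', x', hx'⟩ := exists_lift hT (idl K) hJ (y.comp (Abelian.Ext.mk₀ (g k l hlk)) (add_zero i))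
      fun p hp hKp => by
        obtain ⟨z, hz, hz'⟩ := exists_cl p (idl K) (mem_minimalPrimes_of_gen hJ hp hKp) y
        have h0 : ((localCohomology (mp p) i).map ((Fp p).map (g k 0 (Nat.zero_le k)))).hom z = 0 := by
          refine hz' (M 0) (g k 0 (Nat.zero_le k)) K₁ hK₁
            (mem_minimalPrimes_of_gen hK₁T hp (hK₁.trans hKp)) ?_
          rw [← comp_g M g i hg (Nat.zero_le (m' m₁)) (hm.trans h) y, pull_comp, hK₁y, Abelian.Ext.zero_comp]
        rw [hg k l 0 (Nat.zero_le l) hlk, Functor.map_comp, Functor.map_comp] at h0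
        obtain ⟨n, hn, s, hs, hs0⟩ := hz (M l) (g k l hlk) (htop p hp.1 l k hlk hk z h0)
        exact ⟨n, hn, s, hs, by rwa [pull_comp]⟩
    have hm₀l : m' m₁ ≤ l := hm.trans hml
    have h2 : tH i (M (m' m₁)) (mkIdx J' (hJ'.trans (rest_subset T)))
        (x'.comp (Abelian.Ext.mk₀ (g l (m' m₁) hm₀l)) (add_zero i)) = 0 := by
      refine (tH_comp_congr i (g l (m' m₁) hm₀l) hx').trans ?_
      show tH i (M (m' m₁)) K _ = 0
      exact (congrArg (fun v => tH i (M (m' m₁)) K v) (comp_g M g i hg hm₀l hlk y)).trans hy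
    have h3 := eq_zero_rest hT (g (m' m₁) m₁ (hm' m₁)) (fun j hj p hp => hlow j hj p hp m₁ (m' m₁) (hm' m₁) le_rfl)
      J' hJ' (x'.comp (Abelian.Ext.mk₀ (g l (m' m₁) hm₀l)) (add_zero i)) h2
    rw [comp_g M g i hg (hm' m₁) hm₀l x'] at h3
    have h4 := hl l hml le_rfl (mkIdx J' hJ') x' h3
    obtain ⟨J'', h'', hJ'', h0⟩ := (tH_eq_zero_iff' J' hJ' _).1 h4
    have h5 : tH i (M m) (mkIdx J' (hJ'.trans (rest_subset T)))
        (x'.comp (Abelian.Ext.mk₀ (g l m hml)) (add_zero i)) = 0 :=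
      (tH_eq_zero_iff' J' (hJ'.trans (rest_subset T)) _).2 ⟨J'', h'', hJ''.trans (rest_subset T), h0⟩
    rw [← comp_g M g i hg hml hlk y]
    exact ((tH_comp_congr i (g l m hml) hx').symm).trans h5

theorem bd_of_krullDim {T : Set (PrimeSpectrum A)} {e : ℕ} (he : Order.krullDim ↥T ≤ (e : WithBot ℕ∞)) :
    Bd T (e + 1) := fun l => by
  have h := (Order.LTSeries.length_le_krullDim l).trans he
  have h2 : l.length ≤ e := by exact_mod_cast h
  omega

theorem exists_bd (hA : ringKrullDim A < ⊤) (T : Set (PrimeSpectrum A)) : ∃ e, Bd T e := by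
  obtain ⟨D, hD⟩ : ∃ D : ℕ, ringKrullDim A ≤ D := by
    generalize ringKrullDim A = d at hA
    rcases d with _ | d
    · exact ⟨0, bot_le⟩
    · rcases d with _ | d
      · exact absurd hA (lt_irrefl _)
      · exact ⟨d, le_rfl⟩
  refine ⟨D + 1, fun l => ?_⟩
  have h := (Order.LTSeries.length_le_krullDim (l.map Subtype.val fun _ _ h => h)).trans hD
  have h2 : l.length ≤ D := by exact_mod_cast h
  omega

theorem iterate_le (hm' : ∀ m, m ≤ m' m) {a b : ℕ} (h : a ≤ b) (m : ℕ) : (m'^[a]) m ≤ (m'^[b]) m := by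
  induction b, h using Nat.le_induction with
  | base => exact le_rfl
  | succ b _ ih => rw [Function.iterate_succ_apply']; exact ih.trans (hm' _)

end Groth.Agent.GrLib8.PointT
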